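import Mathlib

/-!
Groups with eighteen Sylow 17-subgroups acting faithfully on them.
-/

set_option autoImplicit false
set_option linter.style.haveILetI false

namespace Cfsg.Agent.Lib.SylowSeventeen

open MulAction

variable {G : Type*} [Group G] [Finite G] [hp : Fact (Nat.Prime 17)]

local notation "Ω" => Sylow 17 G

/-- The hypotheses: eighteen Sylow subgroups, and only the identity normalises all of them. -/
structure Eighteen (G : Type*) [Group G] : Prop where
  card_eq : Nat.card (Sylow 17 G) = 18
  faithful : ∀ g : G, (∀ P : Sylow 17 G, g • P = P) → g = 1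

omit [Finite G] hp in
theorem smul_self (P : Ω) {u : G} (hu : u ∈ (P : Subgroup G)) : u • P = P :=
  Sylow.smul_eq_iff_mem_normalizer.2 (Subgroup.le_normalizer hu)

omit [Finite G] hp in
theorem fixed_eq (Q R : Ω) (h : ∀ u ∈ (Q : Subgroup G), u • R = R) : R = Q := by
  have hle : (Q : Subgroup G) ≤ Subgroup.normalizer ((R : Subgroup G) : Set G) := fun u hu =>
    Sylow.smul_eq_iff_mem_normalizer.1 (h u hu)
  have := IsPGroup.to_sup_of_normal_right' Q.isPGroup' R.isPGroup' hle
  have e1 := Q.is_maximal' this le_sup_left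
  have e2 := R.is_maximal' this le_sup_right
  exact Sylow.ext (e2.symm.trans e1)

variable (h : Eighteen G)
include h

theorem card_sylow (P : Ω) : Nat.card (P : Subgroup G) = 17 := by
  classical
  haveI : Fintype Ω := Fintype.ofFinite _
  haveI : Fintype G := Fintype.ofFinite _
  have hinj : Function.Injective (toPermHom G Ω) := by
    rw [injective_iff_map_eq_one]
    exact fun g hg => h.faithful g fun Q => by simpa using Equiv.Perm.ext_iff.1 hg Q
  have hd : Nat.card G ∣ Nat.factorial 18 := by
    have := Subgroup.card_dvd_of_injective _ hinj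
    rwa [Nat.card_eq_fintype_card (α := Equiv.Perm Ω), Fintype.card_perm, ← Nat.card_eq_fintype_card,
      h.card_eq] at this
  obtain ⟨k, hk⟩ := IsPGroup.iff_card.1 P.isPGroup'
  have hdk : 17 ^ k ∣ Nat.factorial 18 := hk ▸ (Subgroup.card_subgroup_dvd_card _).trans hd
  have hk1 : k ≤ 1 := by
    by_contra hlt
    have : 17 ^ 2 ∣ Nat.factorial 18 := (pow_dvd_pow 17 (by omega)).trans hdk
    revert this
    decide
  have hk0 : k ≠ 0 := by
    rintro rfl
    have hbot : (P : Subgroup G) = ⊥ := Subgroup.eq_bot_of_card_eq _ (by rw [hk]; rfl)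
    have := P.card_eq_index_normalizer
    rw [h.card_eq, ← P.coe_coe, hbot, Subgroup.normalizer_eq_top, Subgroup.index_top] at this
    omega
  rw [hk, show k = 1 by omega, pow_one]

theorem free (Q R : Ω) (hne : R ≠ Q) {u : G} (hu : u ∈ (Q : Subgroup G)) (hR : u • R = R) : u = 1 := by
  by_contra h1
  have hz : Subgroup.zpowers u = (Q : Subgroup G) :=
    Subgroup.eq_of_le_of_card_ge (Subgroup.zpowers_le.2 hu)
      (by
        have hd : orderOf u ∣ 17 := card_sylow h Q ▸ Subgroup.orderOf_dvd_natCard _ hu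
        rcases (Nat.dvd_prime hp.out).1 hd with e | e
        · exact absurd (orderOf_eq_one_iff.1 e) h1
        · rw [Nat.card_zpowers, e, card_sylow h Q])
  refine hne (fixed_eq Q R fun v hv => ?_)
  rw [← hz] at hv
  exact Subgroup.zpowers_le.2 (mem_stabilizer_iff.2 hR) hv

theorem regular (Q R S : Ω) (hR : R ≠ Q) (hS : S ≠ Q) : ∃ u ∈ (Q : Subgroup G), u • R = S := by
  classical
  haveI : Fintype Ω := Fintype.ofFinite _
  let f : ↥(Q : Subgroup G) → {X : Ω // X ≠ Q} := fun u => ⟨(u : G) • R, fun e => hR (by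
    rw [← inv_smul_smul (u : G) R, e, smul_self Q (inv_mem u.2)])⟩
  have hinj : Function.Injective f := fun u v e => by
    have e' : (u : G) • R = (v : G) • R := congrArg Subtype.val e
    have := free h Q R hR (mul_mem (inv_mem v.2) u.2) (by rw [mul_smul, e', inv_smul_smul])
    exact Subtype.ext (inv_mul_eq_one.1 this).symm
  have hc : Nat.card {X : Ω // X ≠ Q} = 17 := by
    rw [Nat.card_eq_fintype_card, Fintype.card_subtype_compl, Fintype.card_subtype_eq,
      ← Nat.card_eq_fintype_card, h.card_eq]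
  obtain ⟨u, hu⟩ := ((Nat.bijective_iff_injective_and_card f).2 ⟨hinj, (card_sylow h Q).trans hc.symm⟩).2 ⟨S, hS⟩
  exact ⟨u, u.2, congrArg Subtype.val hu⟩

theorem exists_ne (Q : Ω) : ∃ R : Ω, R ≠ Q := by
  classical
  haveI : Fintype Ω := Fintype.ofFinite _
  obtain ⟨R, hR⟩ := Fintype.exists_ne_of_one_lt_card
    (by rw [← Nat.card_eq_fintype_card, h.card_eq]; omega) Q
  exact ⟨R, hR⟩

theorem two_transitive (a b c d : Ω) (hab : a ≠ b) (hcd : c ≠ d) : ∃ g : G, g • a = c ∧ g • b = d := by
  obtain ⟨x, hx⟩ := MulAction.exists_smul_eq G a c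
  have hxb : x • b ≠ c := fun e => hab (smul_left_cancel x (e.trans hx.symm)).symm
  obtain ⟨u, hu, hub⟩ := regular h c (x • b) d hxb hcd.symm
  exact ⟨u * x, by rw [mul_smul, hx, smul_self c hu], by rw [mul_smul, hub]⟩

/-- An element commuting with `Q` acts on the other points as an element of `Q`. -/
theorem mem_of_commute (Q : Ω) {x : G} (hxQ : x • Q = Q)
    (hc : ∀ u ∈ (Q : Subgroup G), x * u = u * x) : x ∈ (Q : Subgroup G) := by
  obtain ⟨R, hR⟩ := exists_ne h Q
  have hxR : x • R ≠ Q := fun e => hR (smul_left_cancel x (e.trans hxQ.symm))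
  obtain ⟨u, hu, hux⟩ := regular h Q R (x • R) hR hxR
  suffices hx : u⁻¹ * x = 1 by rwa [← inv_mul_eq_one.1 hx]
  refine h.faithful _ fun S => ?_
  by_cases hS : S = Q
  · subst hS
    rw [mul_smul, hxQ, smul_self S (inv_mem hu)]
  obtain ⟨v, hv, rfl⟩ := regular h Q R S hR hS
  have hvu : u * v = v * u := by
    haveI : IsCyclic (Q : Subgroup G) := isCyclic_of_prime_card (card_sylow h Q)
    letI : CommGroup (Q : Subgroup G) := IsCyclic.commGroup
    exact congrArg Subtype.val (mul_comm (⟨u, hu⟩ : (Q : Subgroup G)) ⟨v, hv⟩)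
  rw [← mul_smul, mul_assoc, hc v hv, ← mul_assoc, mul_smul, ← hux, ← mul_smul, mul_assoc, ← hvu,
    inv_mul_cancel_left]

theorem three_points {g : G} {a b c : Ω} (hab : a ≠ b) (hbc : b ≠ c) (hac : a ≠ c)
    (ha : g • a = a) (hb : g • b = b) (hc : g • c = c) : g = 1 := by
  obtain ⟨u, hu, rfl⟩ := regular h a b c hab.symm hac.symm
  have hgu : g * u * g⁻¹ ∈ (a : Subgroup G) :=
    (Subgroup.mem_normalizer_iff.1 (Sylow.smul_eq_iff_mem_normalizer.1 ha) u).1 hu
  have hfix : (u⁻¹ * (g * u * g⁻¹)) • b = b := by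
    rw [mul_smul, mul_smul, mul_smul, inv_smul_eq_iff.2 hb.symm, hc, inv_smul_smul]
  have h1 := free h a b hab.symm (mul_mem (inv_mem hu) hgu) hfix
  have hcomm : g * u = u * g := by
    have h2 := (inv_mul_eq_one.1 h1).symm
    calc g * u = g * u * g⁻¹ * g := by group
      _ = u * g := by rw [h2]
  have hu1 : u ≠ 1 := fun e => hbc (by rw [e, one_smul])
  have hz : Subgroup.zpowers u = (a : Subgroup G) :=
    Subgroup.eq_of_le_of_card_ge (Subgroup.zpowers_le.2 hu) (by
      have hd : orderOf u ∣ 17 := card_sylow h a ▸ Subgroup.orderOf_dvd_natCard _ hu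
      rcases (Nat.dvd_prime hp.out).1 hd with e | e
      · exact absurd (orderOf_eq_one_iff.1 e) hu1
      · rw [Nat.card_zpowers, e, card_sylow h a])
  have hga : g ∈ (a : Subgroup G) := by
    refine mem_of_commute h a ha fun v hv => ?_
    rw [← hz] at hv
    obtain ⟨k, rfl⟩ := hv
    exact (Commute.zpow_right hcomm k).eq
  exact free h a b hab.symm hga hb

/-- The normaliser of `a` is `a` times a two-point stabiliser of order dividing `16`. -/
theorem card_stabilizer (a b : Ω) (hab : a ≠ b) :
    IsCyclic ↥(stabilizer G a ⊓ stabilizer G b) ∧ Nat.card ↥(stabilizer G a ⊓ stabilizer G b) ∣ 16 ∧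
      Nat.card (stabilizer G a) = 17 * Nat.card ↥(stabilizer G a ⊓ stabilizer G b) ∧
      Nat.card G = 306 * Nat.card ↥(stabilizer G a ⊓ stabilizer G b) := by
  classical
  set A := stabilizer G a
  set H := stabilizer G a ⊓ stabilizer G b with hH
  haveI : IsCyclic (a : Subgroup G) := isCyclic_of_prime_card (card_sylow h a)
  have hnorm : ∀ x ∈ H, x ∈ Subgroup.normalizer ((a : Subgroup G) : Set G) := fun x hx =>
    Sylow.smul_eq_iff_mem_normalizer.1 hx.1
  let φ : H →* MulAut (a : Subgroup G) :=
    ((a : Subgroup G).normalizerMonoidHom).comp (Subgroup.inclusion hnorm)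
  have hφ : Function.Injective φ := by
    rw [injective_iff_map_eq_one]
    intro x hx
    have hc : ∀ u ∈ (a : Subgroup G), (x : G) * u = u * x := fun u hu => by
      have h0 : φ x ⟨u, hu⟩ = ⟨u, hu⟩ := by rw [hx]; rfl
      have : (x : G) * u * (x : G)⁻¹ = u := congrArg Subtype.val h0
      calc (x : G) * u = (x : G) * u * (x : G)⁻¹ * x := by group
        _ = u * x := by rw [this]
    have := mem_of_commute h a x.2.1 hc
    exact Subtype.ext (free h a b hab.symm this x.2.2)
  let e : MulAut (a : Subgroup G) ≃* (ZMod (Nat.card (a : Subgroup G)))ˣ := IsCyclic.mulAutMulEquiv _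
  haveI : IsCyclic (ZMod (Nat.card (a : Subgroup G)))ˣ := by rw [card_sylow h a]; infer_instance
  have hψ : Function.Injective (e.toMonoidHom.comp φ) := e.injective.comp hφ
  have hcyc : IsCyclic H := isCyclic_of_injective _ hψ
  have hdvd : Nat.card H ∣ 16 := by
    have := Subgroup.card_dvd_of_injective φ hφ
    rwa [IsCyclic.card_mulAut, card_sylow h a] at this
  have horb : orbit A b = {X : Ω | X ≠ a} := by
    ext X
    constructor
    · rintro ⟨⟨g, hg⟩, rfl⟩ e
      exact hab (smul_left_cancel g (e.trans hg.symm)).symm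
    · intro hX
      obtain ⟨u, hu, hub⟩ := regular h a b X hab.symm hX
      exact ⟨⟨u, smul_self a hu⟩, hub⟩
  have h17 : Nat.card (orbit A b) = 17 := by
    haveI : Fintype Ω := Fintype.ofFinite _
    rw [horb]
    show Nat.card {X : Ω // X ≠ a} = 17
    rw [Nat.card_eq_fintype_card, Fintype.card_subtype_compl, Fintype.card_subtype_eq,
      ← Nat.card_eq_fintype_card, h.card_eq]
  have hA : Nat.card A = 17 * Nat.card H := by
    have e2 : stabilizer A b = H.subgroupOf A := by
      ext ⟨g, hg⟩
      exact ⟨fun e => ⟨hg, e⟩, fun e => e.2⟩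
    have := (stabilizer A b).index_mul_card
    rw [index_stabilizer, ← Nat.card_coe_set_eq, h17, e2,
      Nat.card_congr (Subgroup.subgroupOfEquivOfLe (inf_le_left : H ≤ A)).toEquiv] at this
    exact this.symm
  refine ⟨hcyc, hdvd, hA, ?_⟩
  have := A.index_mul_card
  rw [index_stabilizer_of_transitive, h.card_eq, hA] at this
  omega

/-- A non-trivial normal subgroup contains every Sylow 17-subgroup. -/
theorem sylow_le_normal (L : Subgroup G) [hL : L.Normal] (hne : L ≠ ⊥) (P : Ω) : (P : Subgroup G) ≤ L := by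
  classical
  have key : ∀ (M : Subgroup G), M.Normal → ¬ 17 ∣ Nat.card M → M = ⊥ ∨ Nat.card M = 18 := by
    intro M hM h17
    have hfreeM : ∀ (a : Ω), ∀ x ∈ M, x • a = a → x = 1 := by
      intro a x hx hxa
      have hmem : x ∈ (a : Subgroup G) := by
        refine mem_of_commute h a hxa fun u hu => ?_
        have h1 : x * u * x⁻¹ * u⁻¹ ∈ (a : Subgroup G) :=
          mul_mem ((Subgroup.mem_normalizer_iff.1 (Sylow.smul_eq_iff_mem_normalizer.1 hxa) u).1 hu) (inv_mem hu)
        have h2 : x * u * x⁻¹ * u⁻¹ ∈ M := by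
          have := mul_mem hx (hM.conj_mem _ (inv_mem hx) u)
          simpa [mul_assoc] using this
        have h3 : x * u * x⁻¹ * u⁻¹ = 1 := by
          by_contra h3
          refine h17 ?_
          have ho : orderOf (x * u * x⁻¹ * u⁻¹) = 17 := by
            have hd : orderOf (x * u * x⁻¹ * u⁻¹) ∣ 17 := card_sylow h a ▸ Subgroup.orderOf_dvd_natCard _ h1
            exact ((Nat.dvd_prime hp.out).1 hd).resolve_left (fun e => h3 (orderOf_eq_one_iff.1 e))
          exact ho ▸ Subgroup.orderOf_dvd_natCard M h2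
        calc x * u = x * u * x⁻¹ * u⁻¹ * (u * x) := by group
          _ = u * x := by rw [h3, one_mul]
      by_contra h1
      refine h17 ?_
      have hd : orderOf x ∣ 17 := card_sylow h a ▸ Subgroup.orderOf_dvd_natCard _ hmem
      exact ((Nat.dvd_prime hp.out).1 hd).resolve_left (fun e => h1 (orderOf_eq_one_iff.1 e)) ▸
        Subgroup.orderOf_dvd_natCard M hx
    by_cases hMb : M = ⊥
    · exact Or.inl hMb
    right
    obtain ⟨a⟩ : Nonempty Ω := inferInstance
    obtain ⟨⟨x, hx⟩, hz⟩ := M.ne_bot_iff_exists_ne_one.1 hMb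
    have hx1 : x ≠ 1 := fun e => hz (Subtype.ext e)
    have hxa : x • a ≠ a := fun e => hx1 (hfreeM a x hx e)
    let f : M → Ω := fun m => (m : G) • a
    have hbij : Function.Bijective f := by
      constructor
      · intro m n e
        have e' : (m : G) • a = (n : G) • a := e
        have := hfreeM a ((n : G)⁻¹ * m) (mul_mem (inv_mem n.2) m.2) (by rw [mul_smul, e', inv_smul_smul])
        exact Subtype.ext (inv_mul_eq_one.1 this).symm
      · intro S
        by_cases hS : S = a
        · exact ⟨1, by simp [f, hS]⟩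
        obtain ⟨u, hu, hus⟩ := regular h a (x • a) S hxa hS
        refine ⟨⟨u * x * u⁻¹, hM.conj_mem x hx u⟩, ?_⟩
        show (u * x * u⁻¹) • a = S
        rw [mul_smul, mul_smul, smul_self a (inv_mem hu), hus]
    rw [Nat.card_eq_of_bijective f hbij, h.card_eq]
  have h17 : 17 ∣ Nat.card L := by
    by_contra h17
    obtain hb | h18 := key L hL h17
    · exact hne hb
    haveI : Fact (Nat.Prime 3) := ⟨by norm_num⟩
    obtain ⟨S⟩ : Nonempty (Sylow 3 L) := inferInstance
    have hS : Nat.card (S : Subgroup L) = 9 := by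
      rw [S.card_eq_multiplicity, h18, show (18 : ℕ) = 3 ^ 2 * 2 by norm_num,
        Nat.factorization_mul (by norm_num) (by norm_num), Finsupp.add_apply,
        Nat.Prime.factorization_pow (by norm_num : Nat.Prime 3), Finsupp.single_eq_same,
        Nat.factorization_eq_zero_of_not_dvd (by norm_num)]
      norm_num
    have hidx : (S : Subgroup L).index = 2 := by
      have := (S : Subgroup L).index_mul_card
      rw [hS, h18] at this
      omega
    haveI : (S : Subgroup L).Normal := Subgroup.normal_of_index_eq_two hidx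
    haveI : (S : Subgroup L).Characteristic := Sylow.characteristic_of_normal S inferInstance
    have hN : ((S : Subgroup L).map L.subtype).Normal := ConjAct.normal_of_characteristic_of_normal
    have hc : Nat.card ((S : Subgroup L).map L.subtype) = 9 := by
      rw [Subgroup.card_map_of_injective L.subtype_injective, hS]
    rcases key _ hN (by rw [hc]; norm_num) with e | e
    · rw [e, Subgroup.card_bot] at hc; omega
    · omega
  obtain ⟨z, hz⟩ := exists_prime_orderOf_dvd_card' 17 h17
  obtain ⟨Q, hQ⟩ := IsPGroup.exists_le_sylow (P := Subgroup.zpowers (z : G))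
    (IsPGroup.of_card (n := 1) (by rw [Nat.card_zpowers, Subgroup.orderOf_coe, hz, pow_one]))
  have hQL : (Q : Subgroup G) ≤ L := by
    have he : Subgroup.zpowers (z : G) = Q := Subgroup.eq_of_le_of_card_ge hQ
      (by rw [card_sylow h Q, Nat.card_zpowers, Subgroup.orderOf_coe, hz])
    rw [← he, Subgroup.zpowers_le]
    exact z.2
  obtain ⟨g, rfl⟩ := MulAction.exists_smul_eq G Q P
  rw [Sylow.coe_subgroup_smul]
  intro y hy
  rw [Subgroup.mem_pointwise_smul_iff_inv_smul_mem] at hy
  have := hL.conj_mem _ (hQL hy) g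
  simpa [MulAut.smul_def, mul_assoc] using this

end Cfsg.Agent.Lib.SylowSeventeen
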