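import Cfsg.Agent.Lib.SylowSeventeen.Numbers
import Cfsg.Agent.Lib.Classical.AutPSL.Count
import Cfsg.Agent.S0813

/-!
Centreless groups whose set of Sylow numbers is `{18, 136, 153}`.
-/

set_option autoImplicit false
set_option linter.style.haveILetI false

namespace Cfsg.Agent.Lib.SylowSeventeen

open MulAction

variable {G : Type*} [Group G] [Finite G]

theorem map_smul_sylow {H : Type*} [Group H] {p : ℕ} [Fact p.Prime] [Finite H] {f : G →* H}
    (hf : Function.Surjective f) (g : G) (P : Sylow p G) :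
    (g • P).mapSurjective hf = f g • P.mapSurjective hf := by
  apply Sylow.ext
  rw [Sylow.coe_mapSurjective, Sylow.coe_subgroup_smul, Sylow.coe_subgroup_smul, Sylow.coe_mapSurjective]
  ext x
  constructor
  · rintro ⟨y, hy, rfl⟩
    obtain ⟨z, hz, rfl⟩ := hy
    exact ⟨f z, ⟨z, hz, rfl⟩, by simp [MulAut.smul_def]⟩
  · rintro ⟨y, ⟨z, hz, rfl⟩, rfl⟩
    exact ⟨g * z * g⁻¹, ⟨z, hz, by simp [MulAut.smul_def]⟩, by simp [MulAut.smul_def]⟩

/-- The Sylow number of a normal subgroup divides that of the group. -/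
theorem card_sylow_normal_dvd (r : ℕ) [Fact r.Prime] (N : Subgroup G) [N.Normal] :
    Nat.card (Sylow r N) ∣ Nat.card (Sylow r G) := by
  obtain ⟨R⟩ : Nonempty (Sylow r G) := inferInstance
  rw [Cfsg.Agent.Lib.PGroups.card_sylow_normal_eq R N, Cfsg.Agent.Lib.PGroups.card_sylow_eq_quotient_mul R N]
  refine Dvd.dvd.mul_left ?_ _
  exact Subgroup.relIndex_dvd_of_le_left N (Cfsg.Agent.Lib.PGroups.normalizer_inf_le R N)

/-- If the quotient has all the Sylow subgroups, the kernel normalises them. -/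
theorem le_normalizer_of_card_eq (r : ℕ) [Fact r.Prime] (K : Subgroup G) [K.Normal]
    (he : Nat.card (Sylow r G) = Nat.card (Sylow r (G ⧸ K))) (R : Sylow r G) :
    K ≤ Subgroup.normalizer ((R : Subgroup G) : Set G) := by
  have h := Cfsg.Agent.Lib.PGroups.card_sylow_eq_quotient_mul R K
  rw [← he] at h
  exact Subgroup.relIndex_eq_one.1 ((Nat.mul_eq_left Nat.card_pos.ne').1 h.symm)

/-- The intersection of the Sylow subgroups with a subgroup normalising them all is unique. -/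
theorem inf_eq_of_le_normalizer (r : ℕ) [Fact r.Prime] (K : Subgroup G) [K.Normal] (R R' : Sylow r G)
    (hR : K ≤ Subgroup.normalizer ((R : Subgroup G) : Set G)) :
    (R : Subgroup G) ⊓ K = (R' : Subgroup G) ⊓ K := by
  have h1 : Nat.card (Sylow r K) = 1 := by
    rw [Cfsg.Agent.Lib.PGroups.card_sylow_normal_eq R K, Subgroup.relIndex_eq_one]
    exact hR.trans (Cfsg.Agent.Lib.PGroups.normalizer_inf_le R K)
  obtain ⟨Q, hQ⟩ := Cfsg.Agent.Lib.PGroups.exists_sylow_eq_inf R K
  obtain ⟨Q', hQ'⟩ := Cfsg.Agent.Lib.PGroups.exists_sylow_eq_inf R' K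
  haveI := (Nat.card_eq_one_iff_unique.1 h1).1
  rw [Subsingleton.elim Q Q', hQ'] at hQ
  have := congrArg (Subgroup.map K.subtype) hQ
  rwa [Subgroup.map_subgroupOf_eq_of_le inf_le_right, Subgroup.map_subgroupOf_eq_of_le inf_le_right,
    eq_comm] at this

/-- A prime larger than three outside the quotient cannot have `17` dividing its Sylow number. -/
theorem no_extra_prime [Fact (Nat.Prime 17)] (K : Subgroup G) [K.Normal] (P : Sylow 17 G)
    (hP : ∀ P' : Sylow 17 G, K ≤ Subgroup.normalizer ((P' : Subgroup G) : Set G))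
    (r : ℕ) [hr : Fact r.Prime] (hr2 : r ≠ 2) (hr17 : r ≠ 17) (hQ : ¬ r ∣ K.index)
    (h17 : 17 ∣ Nat.card (Sylow r G)) (h289 : ¬ 17 ^ 2 ∣ Nat.card (Sylow r G)) : False := by
  obtain ⟨R⟩ : Nonempty (Sylow r G) := inferInstance
  have hR1 : Nat.card (Sylow r (G ⧸ K)) = 1 := by
    obtain ⟨S⟩ : Nonempty (Sylow r (G ⧸ K)) := inferInstance
    have hS : (S : Subgroup (G ⧸ K)) = ⊥ := by
      apply Subgroup.eq_bot_of_card_eq
      rw [S.card_eq_multiplicity, Nat.factorization_eq_zero_of_not_dvd (by rwa [← Subgroup.index_eq_card]),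
        pow_zero]
    rw [S.card_eq_index_normalizer, ← S.coe_coe, hS, Subgroup.normalizer_eq_top, Subgroup.index_top]
  have hk := Cfsg.Agent.Lib.PGroups.card_sylow_eq_quotient_mul R K
  rw [hR1, one_mul] at hk
  set N := Subgroup.normalizer ((R : Subgroup G) : Set G) with hN
  set D := (P : Subgroup G) ⊓ K with hD
  haveI hDn : D.Normal := ⟨fun n hn g => by
    have hn' : g * n * g⁻¹ ∈ ((g • P : Sylow 17 G) : Subgroup G) ⊓ K := by
      refine ⟨?_, Subgroup.Normal.conj_mem ‹_› n hn.2 g⟩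
      rw [Sylow.coe_subgroup_smul]
      exact ⟨n, hn.1, rfl⟩
    rwa [hD, inf_eq_of_le_normalizer 17 K P (g • P) (hP P)]⟩
  -- the seventeen part of the Sylow number lives in `D`
  set A := N ⊓ K
  have hsup : A.relIndex (A ⊔ D) = A.relIndex D :=
    Cfsg.Agent.Lib.PGroups.relIndex_sup_of_le_normalizer (by rw [Subgroup.normalizer_eq_top]; exact le_top)
  have hmul : A.relIndex (A ⊔ D) * (A ⊔ D).relIndex K = A.relIndex K :=
    Subgroup.relIndex_mul_relIndex A (A ⊔ D) K le_sup_left (sup_le inf_le_right inf_le_right)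
  have hAK : A.relIndex K = Nat.card (Sylow r G) := by rw [Subgroup.inf_relIndex_right, ← hk]
  have hDK : ¬ 17 ∣ D.relIndex K := Cfsg.Agent.Lib.PGroups.not_dvd_relIndex_inf P K
  have hp17 : Nat.Prime 17 := Fact.out
  have h17' : 17 ∣ A.relIndex D := by
    rw [← hsup]
    refine (hp17.dvd_mul.1 (hmul.symm ▸ hAK.symm ▸ h17)).resolve_right fun hd => hDK ?_
    exact hd.trans (Subgroup.relIndex_dvd_of_le_left K le_sup_right)
  obtain ⟨i, hi⟩ := IsPGroup.iff_card.1 (P.isPGroup'.to_le (inf_le_left : D ≤ P))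
  have hdc : A.relIndex D ∣ Nat.card D := Subgroup.relIndex_dvd_card A D
  obtain ⟨j, hji, hj⟩ := (Nat.dvd_prime_pow hp17).1 (hi ▸ hdc)
  have hj1 : j = 1 := by
    have hdG : 17 ^ j ∣ Nat.card (Sylow r G) := by
      rw [← hj, ← hsup, ← hAK, ← hmul]
      exact dvd_mul_right _ _
    have hle : j ≤ 1 := by
      by_contra hlt
      exact h289 ((pow_dvd_pow 17 (by omega : 2 ≤ j)).trans hdG)
    have : j ≠ 0 := by
      rintro rfl
      rw [hj] at h17'
      norm_num at h17'
    omega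
  rw [hj1, pow_one] at hj
  have hcardD : Nat.card D = 17 * Nat.card (A ⊓ D : Subgroup G) := by
    rw [← hj, ← Subgroup.inf_relIndex_right A D, ← Subgroup.relIndex_bot_left, ← Subgroup.relIndex_bot_left,
      mul_comm, Subgroup.relIndex_mul_relIndex _ _ _ bot_le inf_le_right]
  -- `R` acts on `D` with fixed points `A ⊓ D`
  letI : MulAction (R : Subgroup G) D :=
    { smul := fun y z => ⟨(y : G) * z * (y : G)⁻¹, hDn.conj_mem _ z.2 _⟩
      one_smul := fun z => Subtype.ext (show (1 : G) * z * (1 : G)⁻¹ = z by simp)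
      mul_smul := fun y y' z => Subtype.ext (show ((y : G) * y') * z * ((y : G) * y')⁻¹ =
        (y : G) * ((y' : G) * z * (y' : G)⁻¹) * (y : G)⁻¹ by group) }
  have hdisj : (R : Subgroup G) ⊓ D = ⊥ :=
    IsPGroup.disjoint_of_ne r 17 hr17 _ _ R.isPGroup' (P.isPGroup'.to_le inf_le_left) |>.eq_bot
  have hfix : ∀ z : D, z ∈ fixedPoints (R : Subgroup G) D ↔ (z : G) ∈ A ⊓ D := by
    intro z
    constructor
    · intro hz
      refine ⟨⟨?_, z.2.2⟩, z.2⟩
      refine Subgroup.centralizer_le_normalizer _ (Subgroup.mem_centralizer_iff.2 fun y hy => ?_)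
      have h1 : y * (z : G) * y⁻¹ = z := congrArg Subtype.val (hz ⟨y, hy⟩)
      calc y * (z : G) = y * z * y⁻¹ * y := by group
        _ = z * y := by rw [h1]
    · intro hz y
      apply Subtype.ext
      show (y : G) * z * (y : G)⁻¹ = z
      have h1 : (y : G) * z * (y : G)⁻¹ * (z : G)⁻¹ ∈ (R : Subgroup G) ⊓ D := by
        refine Subgroup.mem_inf.2 ⟨?_, Subgroup.mul_mem D (hDn.conj_mem _ z.2 _) (D.inv_mem z.2)⟩
        have := Subgroup.mul_mem (R : Subgroup G) y.2
          ((Subgroup.mem_normalizer_iff.1 hz.1.1 _).1 ((R : Subgroup G).inv_mem y.2))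
        simpa [mul_assoc] using this
      rw [hdisj, Subgroup.mem_bot] at h1
      exact mul_inv_eq_one.1 h1
  have hmod := R.isPGroup'.card_modEq_card_fixedPoints D
  have hfc : Nat.card (fixedPoints (R : Subgroup G) D) = Nat.card (A ⊓ D : Subgroup G) :=
    Nat.card_congr
      { toFun := fun z => ⟨z.1, (hfix z.1).1 z.2⟩
        invFun := fun z => ⟨⟨z.1, z.2.2⟩, (hfix _).2 z.2⟩
        left_inv := fun z => rfl
        right_inv := fun z => rfl }
  rw [hfc, hcardD] at hmod
  have hd := (Nat.modEq_iff_dvd' (Nat.le_mul_of_pos_left _ (by norm_num))).1 hmod.symm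
  rw [show 17 * Nat.card (A ⊓ D : Subgroup G) - Nat.card (A ⊓ D : Subgroup G) =
    2 ^ 4 * Nat.card (A ⊓ D : Subgroup G) by omega] at hd
  rcases hr.out.dvd_mul.1 hd with e | e
  · exact hr2 ((Nat.prime_dvd_prime_iff_eq hr.out Nat.prime_two).1 (hr.out.dvd_of_dvd_pow e))
  · have hdD : r ∣ 17 ^ i := hi ▸ hcardD ▸ e.mul_left 17
    exact hr17 ((Nat.prime_dvd_prime_iff_eq hr.out hp17).1 (hr.out.dvd_of_dvd_pow hdD))

/-- A nontrivial normal subgroup normalising all Sylow subgroups meets the centre. -/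
theorem center_ne_bot (K : Subgroup G) [K.Normal] (hK : K ≠ ⊥)
    (hN : ∀ r : ℕ, ∀ _ : Fact r.Prime, r ∣ Nat.card G → ∀ R : Sylow r G,
      K ≤ Subgroup.normalizer ((R : Subgroup G) : Set G)) : Subgroup.center G ≠ ⊥ := by
  obtain ⟨s, hs, hsK⟩ := Nat.exists_prime_and_dvd (show Nat.card K ≠ 1 from fun e => hK (Subgroup.eq_bot_of_card_eq K e))
  haveI : Fact s.Prime := ⟨hs⟩
  have hsG : s ∣ Nat.card G := hsK.trans K.card_subgroup_dvd_card
  obtain ⟨S⟩ : Nonempty (Sylow s G) := inferInstance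
  set D := (S : Subgroup G) ⊓ K with hD
  haveI hDn : D.Normal := ⟨fun n hn g => by
    have hn' : g * n * g⁻¹ ∈ ((g • S : Sylow s G) : Subgroup G) ⊓ K := by
      refine ⟨?_, Subgroup.Normal.conj_mem ‹_› n hn.2 g⟩
      rw [Sylow.coe_subgroup_smul]
      exact ⟨n, hn.1, rfl⟩
    rwa [hD, inf_eq_of_le_normalizer s K S (g • S) (hN s ⟨hs⟩ hsG S)]⟩
  obtain ⟨Q, hQ⟩ := Cfsg.Agent.Lib.PGroups.exists_sylow_eq_inf S K
  have hsD : s ∣ Nat.card D := by
    have h := Q.dvd_card_of_dvd_card hsK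
    rwa [hQ, Nat.card_congr (Subgroup.subgroupOfEquivOfLe (inf_le_right : D ≤ K)).toEquiv] at h
  letI : MulAction (S : Subgroup G) D :=
    { smul := fun y z => ⟨(y : G) * z * (y : G)⁻¹, hDn.conj_mem _ z.2 _⟩
      one_smul := fun z => Subtype.ext (show (1 : G) * z * (1 : G)⁻¹ = z by simp)
      mul_smul := fun y y' z => Subtype.ext (show ((y : G) * y') * z * ((y : G) * y')⁻¹ =
        (y : G) * ((y' : G) * z * (y' : G)⁻¹) * (y : G)⁻¹ by group) }
  obtain ⟨x, hxfix, hx1⟩ := S.isPGroup'.exists_fixed_point_of_prime_dvd_card_of_fixed_point D hsD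
    (a := 1) (fun y => Subtype.ext (show (y : G) * 1 * (y : G)⁻¹ = 1 by simp))
  have hxG : (x : G) ≠ 1 := fun e => hx1 (Subtype.ext e).symm
  have htop : Subgroup.centralizer {(x : G)} = ⊤ := by
    rw [← Subgroup.index_eq_one]
    by_contra hne
    obtain ⟨r, hr, hrd⟩ := Nat.exists_prime_and_dvd hne
    haveI : Fact r.Prime := ⟨hr⟩
    have hrG : r ∣ Nat.card G := hrd.trans (Subgroup.index_dvd_card _)
    have key : ∃ R : Sylow r G, (R : Subgroup G) ≤ Subgroup.centralizer {(x : G)} := by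
      by_cases hrs : r = s
      · subst hrs
        refine ⟨S, fun y hy => Subgroup.mem_centralizer_singleton_iff.2 ?_⟩
        have h1 : y * (x : G) * y⁻¹ = x := congrArg Subtype.val (hxfix ⟨y, hy⟩)
        calc y * (x : G) = y * x * y⁻¹ * y := by group
          _ = x * y := by rw [h1]
      · obtain ⟨R⟩ : Nonempty (Sylow r G) := inferInstance
        refine ⟨R, fun y hy => Subgroup.mem_centralizer_singleton_iff.2 ?_⟩
        have h1 : y * (x : G) * y⁻¹ * (x : G)⁻¹ ∈ (R : Subgroup G) ⊓ D := by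
          refine Subgroup.mem_inf.2 ⟨?_, Subgroup.mul_mem D (hDn.conj_mem _ x.2 _) (D.inv_mem x.2)⟩
          have := Subgroup.mul_mem (R : Subgroup G) hy
            ((Subgroup.mem_normalizer_iff.1 (hN r ⟨hr⟩ hrG R x.2.2) _).1 ((R : Subgroup G).inv_mem hy))
          simpa [mul_assoc] using this
        rw [(IsPGroup.disjoint_of_ne r s hrs _ _ R.isPGroup' (S.isPGroup'.to_le inf_le_left)).eq_bot,
          Subgroup.mem_bot, mul_inv_eq_one] at h1
        calc y * (x : G) = y * x * y⁻¹ * y := by group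
          _ = x * y := by rw [h1]
    obtain ⟨R, hR⟩ := key
    exact R.not_dvd_index (hrd.trans (Subgroup.index_dvd_of_le hR))
  intro hbot
  refine hxG (Subgroup.mem_bot.1 (hbot ▸ Subgroup.mem_center_iff.2 fun g => ?_))
  exact (Subgroup.mem_centralizer_singleton_iff.1 (htop ▸ Subgroup.mem_top g))

end Cfsg.Agent.Lib.SylowSeventeen
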