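import Cfsg.Agent.Lib.SylowSeventeen.Simple

/-!
The Sylow numbers for two and three of the simple group of order 2448.
-/

set_option autoImplicit false
set_option linter.style.haveILetI false

namespace Cfsg.Agent.Lib.SylowSeventeen

open MulAction

theorem exists_matrix : ∃ M : Matrix.SpecialLinearGroup (Fin 2) (ZMod 17),
    M ^ 3 ∉ Subgroup.center (Matrix.SpecialLinearGroup (Fin 2) (ZMod 17)) ∧
      M ^ 9 ∈ Subgroup.center (Matrix.SpecialLinearGroup (Fin 2) (ZMod 17)) := by
  refine ⟨⟨!![0, 16; 1, 3], by decide⟩, fun hc => ?_, ?_⟩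
  · have := congrArg Subtype.val (Subgroup.mem_center_iff.1 hc ⟨!![1, 1; 0, 1], by decide⟩)
    revert this
    decide
  · rw [Matrix.SpecialLinearGroup.mem_center_iff]
    exact ⟨16, by decide, by decide⟩

variable {G : Type*} [Group G] [Finite G] [hp : Fact (Nat.Prime 17)] [IsSimpleGroup G]

theorem stabilizer_card (h : Eighteen G) (hG : Nat.card G = 2448) (a : Sylow 17 G) :
    Nat.card (stabilizer G a) = 136 := by
  obtain ⟨b, hb⟩ := exists_ne h a
  obtain ⟨-, -, hA, hc⟩ := card_stabilizer h a b hb.symm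
  omega

theorem involution_fixes (h : Eighteen G) {z : G} (hz : orderOf z = 2) : ∃ a : Sylow 17 G, z • a = a := by
  classical
  haveI : Fintype (Sylow 17 G) := Fintype.ofFinite _
  by_contra hno
  push Not at hno
  set σ : Equiv.Perm (Sylow 17 G) := toPermHom G (Sylow 17 G) z with hσ
  have hz2 : z * z = 1 := by rw [← sq, ← hz, pow_orderOf_eq_one]
  have hσ2 : σ ^ 2 = 1 := by rw [hσ, ← map_pow, sq, hz2, map_one]
  have hsupp : σ.support = Finset.univ := Finset.eq_univ_iff_forall.2 fun X =>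
    Equiv.Perm.mem_support.2 (hno X)
  have hall : ∀ n ∈ σ.cycleType, n = 2 := fun n hn => by
    have h2 := Equiv.Perm.two_le_of_mem_cycleType hn
    have hd : n ∣ 2 := by
      refine (Equiv.Perm.dvd_of_mem_cycleType hn).trans ?_
      exact orderOf_dvd_of_pow_eq_one hσ2
    exact le_antisymm (Nat.le_of_dvd two_pos hd) h2
  have hrep : σ.cycleType = Multiset.replicate 9 2 := by
    have e := Multiset.eq_replicate_of_mem hall
    have hsum := Equiv.Perm.sum_cycleType σ
    rw [hsupp, Finset.card_univ, ← Nat.card_eq_fintype_card, h.card_eq, e, Multiset.sum_replicate,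
      smul_eq_mul] at hsum
    rw [e, show σ.cycleType.card = 9 by omega]
  have hsign := Equiv.Perm.sign_of_cycleType σ
  rw [hrep] at hsign
  have hker : (Equiv.Perm.sign.comp (toPermHom G (Sylow 17 G))).ker = ⊤ := by
    refine (IsSimpleGroup.eq_bot_or_eq_top_of_normal _ inferInstance).resolve_left fun e => ?_
    refine not_comm h ⟨⟨fun x y => (MonoidHom.ker_eq_bot_iff _).1 e ?_⟩⟩
    rw [map_mul, map_mul, mul_comm]
  have hg : z ∈ (Equiv.Perm.sign.comp (toPermHom G (Sylow 17 G))).ker := by rw [hker]; trivial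
  have := (MonoidHom.mem_ker.1 hg : Equiv.Perm.sign σ = 1)
  rw [hsign] at this
  revert this
  decide

theorem three_fixes_none (h : Eighteen G) (hG : Nat.card G = 2448) {y : G} (hy : orderOf y = 3)
    (a : Sylow 17 G) : y • a ≠ a := by
  intro e
  have := Subgroup.orderOf_dvd_natCard (stabilizer G a) (mem_stabilizer_iff.2 e)
  rw [hy, stabilizer_card h hG a] at this
  norm_num at this

theorem no_six (h : Eighteen G) (hG : Nat.card G = 2448) {y z : G} (hy : orderOf y = 3) (hz : orderOf z = 2) :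
    y * z ≠ z * y := by
  intro hc
  obtain ⟨a, ha⟩ := involution_fixes h hz
  have hfix : ∀ X : Sylow 17 G, z • X = X → z • (y • X) = y • X := fun X hX => by
    rw [← mul_smul, ← hc, mul_smul, hX]
  have h1 := three_fixes_none h hG hy a
  have h2 : y • (y • a) ≠ y • a := three_fixes_none h hG hy _
  have h3 : y • (y • a) ≠ a := fun e => by
    apply h1
    have hy3 : y * (y * y) = 1 := by
      simpa [pow_succ, mul_assoc, hy] using pow_orderOf_eq_one y
    calc y • a = y • y • (y • a) := by rw [e]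
      _ = a := by rw [← mul_smul, ← mul_smul, mul_assoc, hy3, one_smul]
  have := three_points h h1.symm h2.symm h3.symm ha (hfix _ ha) (hfix _ (hfix _ ha))
  rw [this, orderOf_one] at hz
  omega

theorem not_commute_seventeen (h : Eighteen G) {u x : G} (hu : orderOf u = 17) (hc : x * u = u * x)
    (hx : (orderOf x).Coprime 17) (hx1 : x ≠ 1) : False := by
  obtain ⟨P, hP⟩ := IsPGroup.exists_le_sylow (P := Subgroup.zpowers u)
    (IsPGroup.of_card (n := 1) (by rw [Nat.card_zpowers, hu, pow_one]))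
  have he : Subgroup.zpowers u = P := Subgroup.eq_of_le_of_card_ge hP
    (by rw [card_sylow h P, Nat.card_zpowers, hu])
  have hc' : ∀ v ∈ (P : Subgroup G), x * v = v * x := by
    intro v hv
    rw [← he] at hv
    obtain ⟨k, rfl⟩ := hv
    exact (Commute.zpow_right hc k).eq
  have hxP : x • P = P := Sylow.smul_eq_iff_mem_normalizer.2 (Subgroup.centralizer_le_normalizer _
    (Subgroup.mem_centralizer_iff.2 fun v hv => (hc' v hv).symm))
  have hmem := mem_of_commute h P hxP hc'
  have hd : orderOf x ∣ 17 := card_sylow h P ▸ Subgroup.orderOf_dvd_natCard _ hmem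
  exact hx1 (orderOf_eq_one_iff.1 (Nat.eq_one_of_dvd_one (hx ▸ Nat.dvd_gcd dvd_rfl hd)))

theorem card_sylow_two (h : Eighteen G) (hG : Nat.card G = 2448) : Nat.card (Sylow 2 G) = 153 := by
  haveI : Fact (Nat.Prime 2) := ⟨Nat.prime_two⟩
  haveI : Fact (Nat.Prime 3) := ⟨Nat.prime_three⟩
  obtain ⟨a⟩ : Nonempty (Sylow 17 G) := inferInstance
  obtain ⟨b, hb⟩ := exists_ne h a
  obtain ⟨hcyc, -, -, hc⟩ := card_stabilizer h a b hb.symm
  set H := stabilizer G a ⊓ stabilizer G b
  have hH : Nat.card H = 8 := by omega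
  obtain ⟨S, hHS⟩ := IsPGroup.exists_le_sylow (P := H) (IsPGroup.of_card (p := 2) (n := 3) (by rw [hH]; norm_num))
  have hS : Nat.card (S : Subgroup G) = 16 := by
    rw [Cfsg.Agent.Lib.SylowCounting.sylow_card (p := 2) (k := 4) (m := 153) (by rw [hG]; norm_num) (by norm_num) S]
    norm_num
  rw [S.card_eq_index_normalizer, ← S.coe_coe]
  set N := Subgroup.normalizer ((S : Subgroup G) : Set G)
  suffices hN : N = (S : Subgroup G) by
    rw [hN]
    have := (S : Subgroup G).index_mul_card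
    rw [hS, hG] at this
    omega
  by_contra hne
  have hlt : (S : Subgroup G) < N := lt_of_le_of_ne Subgroup.le_normalizer (Ne.symm hne)
  have hdvd : Nat.card N ∣ 2448 := hG ▸ N.card_subgroup_dvd_card
  have hp : ∃ r, (r = 3 ∨ r = 17) ∧ r ∣ Nat.card N := by
    by_contra hno
    push Not at hno
    have h16 : Nat.card N ∣ 16 := by
      have c1 : (Nat.card N).Coprime 9 :=
        Nat.Coprime.pow_right 2 ((Nat.prime_three.coprime_iff_not_dvd.2 (hno 3 (Or.inl rfl))).symm)
      have c2 : (Nat.card N).Coprime 17 :=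
        ((Nat.Prime.coprime_iff_not_dvd (by norm_num)).2 (hno 17 (Or.inr rfl))).symm
      exact (c1.mul_right c2).dvd_of_dvd_mul_right (by simpa using hdvd)
    exact hlt.ne (Subgroup.eq_of_le_of_card_ge hlt.le (by rw [hS]; exact Nat.le_of_dvd (by norm_num) h16))
  obtain ⟨r, hr, hrN⟩ := hp
  haveI : Fact r.Prime := ⟨by rcases hr with rfl | rfl <;> norm_num⟩
  obtain ⟨⟨y, hyN⟩, hy⟩ := exists_prime_orderOf_dvd_card' r hrN
  rw [Subgroup.orderOf_mk] at hy
  obtain ⟨⟨g, hg⟩, hgen⟩ := hcyc.exists_generator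
  have hgo : orderOf g = 8 := by
    have := orderOf_eq_card_of_forall_mem_zpowers hgen
    rwa [hH, Subgroup.orderOf_mk] at this
  have hz : orderOf (g ^ 4) = 2 := by rw [orderOf_pow' g (by norm_num), hgo]; norm_num
  have hHeq : H = Subgroup.zpowers g := (Subgroup.eq_of_le_of_card_ge (Subgroup.zpowers_le.2 hg)
    (by rw [hH, Nat.card_zpowers, hgo])).symm
  rcases hr with rfl | rfl
  · refine no_six h hG hy hz ?_
    -- `y` fixes the only involution that is a fourth power in `S`
    set g' := y * g * y⁻¹ with hg'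
    have hg'S : g' ∈ (S : Subgroup G) := (Subgroup.mem_normalizer_iff.1 hyN g).1 (hHS hg)
    have hidx : (H.subgroupOf (S : Subgroup G)).index = 2 := by
      have := (H.subgroupOf (S : Subgroup G)).index_mul_card
      rw [Nat.card_congr (Subgroup.subgroupOfEquivOfLe hHS).toEquiv, hH, hS] at this
      omega
    have hsq : g' ^ 2 ∈ H := by
      have := Subgroup.sq_mem_of_index_two hidx ⟨g', hg'S⟩
      exact this
    have ho' : orderOf (g' ^ 4) = 2 := by
      have e : g' ^ 4 = y * g ^ 4 * y⁻¹ := by rw [hg', conj_pow]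
      rw [e, ← MulAut.conj_apply, MulEquiv.orderOf_eq, hz]
    have hm : g' ^ 4 ∈ Subgroup.zpowers g := by
      rw [← hHeq, show (4 : ℕ) = 2 * 2 from rfl, pow_mul]
      exact pow_mem hsq 2
    obtain ⟨k, hk⟩ := (mem_powers_iff_mem_zpowers.2 hm : g' ^ 4 ∈ Submonoid.powers g)
    have hk' : g ^ k = g' ^ 4 := hk
    have h8 : 8 ∣ 2 * k := by
      rw [← hgo]
      refine orderOf_dvd_of_pow_eq_one ?_
      rw [mul_comm, pow_mul, hk', ← ho', pow_orderOf_eq_one]
    have hne1 : ¬ 8 ∣ k := by
      intro hd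
      rw [← hgo, orderOf_dvd_iff_pow_eq_one, hk'] at hd
      rw [hd, orderOf_one] at ho'
      omega
    obtain ⟨j, hj⟩ : ∃ j, k = 4 + 8 * j := ⟨k / 8, by omega⟩
    have e4 : g ^ k = g ^ 4 := by
      rw [hj, pow_add, pow_mul, show g ^ 8 = 1 from hgo ▸ pow_orderOf_eq_one g, one_pow, mul_one]
    have : y * g ^ 4 * y⁻¹ = g ^ 4 := by rw [← conj_pow, ← hg', ← hk', e4]
    calc y * g ^ 4 = y * g ^ 4 * y⁻¹ * y := by group
      _ = g ^ 4 * y := by rw [this]
  · -- an element of order seventeen normalising `S` centralises it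
    refine not_commute_seventeen h hy ?_ (x := g ^ 4) (by rw [hz]; norm_num)
      (fun e => by rw [e, orderOf_one] at hz; omega)
    have hY : IsPGroup 17 (Subgroup.zpowers (⟨y, hyN⟩ : N)) :=
      IsPGroup.of_card (n := 1) (by rw [Nat.card_zpowers, Subgroup.orderOf_mk, hy, pow_one])
    letI : MulAction (Subgroup.zpowers (⟨y, hyN⟩ : N)) (S : Subgroup G) :=
      MulAction.compHom _ (((S : Subgroup G).normalizerMonoidHom).comp (Subgroup.zpowers (⟨y, hyN⟩ : N)).subtype)
    have horb := hY.card_orbit (⟨g ^ 4, hHS (pow_mem hg 4)⟩ : (S : Subgroup G))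
    obtain ⟨n, hn⟩ := horb
    have hle : Nat.card (orbit (Subgroup.zpowers (⟨y, hyN⟩ : N))
        (⟨g ^ 4, hHS (pow_mem hg 4)⟩ : (S : Subgroup G))) ≤ 16 :=
      hS ▸ Nat.card_le_card_of_injective _ Subtype.val_injective
    have hn0 : n = 0 := by
      by_contra hn0
      have : 17 ≤ 17 ^ n := Nat.le_self_pow hn0 17
      omega
    rw [hn0, pow_zero] at hn
    haveI := (Nat.card_eq_one_iff_unique.1 hn).1
    have := congrArg Subtype.val (Subsingleton.elim
      (⟨_, MulAction.mem_orbit (⟨g ^ 4, hHS (pow_mem hg 4)⟩ : (S : Subgroup G))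
        (⟨_, Subgroup.mem_zpowers (⟨y, hyN⟩ : N)⟩ : Subgroup.zpowers (⟨y, hyN⟩ : N))⟩ : orbit _ _)
      ⟨_, MulAction.mem_orbit_self (⟨g ^ 4, hHS (pow_mem hg 4)⟩ : (S : Subgroup G))⟩)
    have hval : y * g ^ 4 * y⁻¹ = g ^ 4 := congrArg Subtype.val this
    calc g ^ 4 * y = y * g ^ 4 * y⁻¹ * y := by rw [hval]
      _ = y * g ^ 4 := by group

theorem exists_order_nine (h : Eighteen G) : ∃ y : G, orderOf y = 9 := by
  haveI : Fact (Nat.Prime 3) := ⟨Nat.prime_three⟩
  obtain ⟨-, ⟨e⟩⟩ := simple_iso h (F := ZMod 17) (ZMod.card 17)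
  obtain ⟨M, h3, h9⟩ := exists_matrix
  refine ⟨e.symm (QuotientGroup.mk M), ?_⟩
  rw [MulEquiv.orderOf_eq]
  refine orderOf_eq_prime_pow (p := 3) (n := 1) ?_ ?_
  · rw [pow_one, ← QuotientGroup.mk_pow, QuotientGroup.eq_one_iff]
    exact h3
  · rw [show 3 ^ (1 + 1) = 9 from rfl, ← QuotientGroup.mk_pow, QuotientGroup.eq_one_iff]
    exact h9

theorem card_sylow_three (h : Eighteen G) (hG : Nat.card G = 2448) : Nat.card (Sylow 3 G) = 136 := by
  haveI : Fact (Nat.Prime 3) := ⟨Nat.prime_three⟩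
  obtain ⟨y, hy⟩ := exists_order_nine h
  obtain ⟨R, hR⟩ := IsPGroup.exists_le_sylow (P := Subgroup.zpowers y)
    (IsPGroup.of_card (p := 3) (n := 2) (by rw [Nat.card_zpowers, hy]; norm_num))
  have hRc : Nat.card (R : Subgroup G) = 9 := by
    rw [Cfsg.Agent.Lib.SylowCounting.sylow_card (p := 3) (k := 2) (m := 272) (by rw [hG]; norm_num) (by norm_num) R]
    norm_num
  have hRe : Subgroup.zpowers y = R := Subgroup.eq_of_le_of_card_ge hR (by rw [hRc, Nat.card_zpowers, hy])
  haveI : IsCyclic (R : Subgroup G) := hRe ▸ inferInstance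
  set N := Subgroup.normalizer ((R : Subgroup G) : Set G)
  let φ : N →* MulAut (R : Subgroup G) := (R : Subgroup G).normalizerMonoidHom
  have hker : Nat.card φ.ker ∣ 9 := by
    have hd : Nat.card φ.ker ∣ 2448 :=
      (Subgroup.card_subgroup_dvd_card φ.ker).trans (hG ▸ N.card_subgroup_dvd_card)
    have hno : ∀ r, r = 2 ∨ r = 17 → ¬ r ∣ Nat.card φ.ker := by
      intro r hr hrd
      haveI : Fact r.Prime := ⟨by rcases hr with rfl | rfl <;> norm_num⟩
      obtain ⟨⟨⟨z, hzN⟩, hzk⟩, hz⟩ := exists_prime_orderOf_dvd_card' r hrd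
      rw [Subgroup.orderOf_mk, Subgroup.orderOf_mk] at hz
      have hyR : y ∈ (R : Subgroup G) := hR (Subgroup.mem_zpowers y)
      have h0 : φ ⟨z, hzN⟩ ⟨y, hyR⟩ = ⟨y, hyR⟩ := by
        rw [MonoidHom.mem_ker.1 hzk]
        rfl
      have hcom : Commute z y := by
        have h1 : z * y * z⁻¹ = y := congrArg Subtype.val h0
        calc z * y = z * y * z⁻¹ * z := by group
          _ = y * z := by rw [h1]
      have hy3 : orderOf (y ^ 3) = 3 := by rw [orderOf_pow' y (by norm_num), hy]; norm_num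
      rcases hr with rfl | rfl
      · exact no_six h hG hy3 hz ((hcom.pow_right 3).eq.symm)
      · exact not_commute_seventeen h hz (hcom.pow_right 3).eq.symm (by rw [hy3]; norm_num)
          (fun e => by rw [e, orderOf_one] at hy3; omega)
    have c1 : (Nat.card φ.ker).Coprime 16 :=
      Nat.Coprime.pow_right 4 ((Nat.prime_two.coprime_iff_not_dvd.2 (hno 2 (Or.inl rfl))).symm)
    have c2 : (Nat.card φ.ker).Coprime 17 :=
      ((Nat.Prime.coprime_iff_not_dvd (by norm_num)).2 (hno 17 (Or.inr rfl))).symm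
    exact (c1.mul_right c2).dvd_of_dvd_mul_left (by simpa using hd)
  have hN : Nat.card N ∣ 54 := by
    rw [← φ.ker.index_mul_card, Subgroup.index_ker]
    have hr : Nat.card φ.range ∣ 6 := by
      have := φ.range.card_subgroup_dvd_card
      rwa [IsCyclic.card_mulAut, hRc] at this
    exact (mul_dvd_mul hr hker).trans (by norm_num)
  have hN18 : Nat.card N ∣ 18 := (Nat.dvd_gcd hN (hG ▸ N.card_subgroup_dvd_card)).trans (by norm_num)
  have hn := Cfsg.Agent.Lib.SylowCounting.sylow_count_mem (G := G) (p := 3) (k := 2) (m := 272)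
    (by rw [hG]; norm_num) (by norm_num)
  rw [show (272 : ℕ).divisors.filter (fun d => d % 3 = 1) = {1, 4, 16, 34, 136} by decide] at hn
  have hidx : Nat.card (Sylow 3 G) * Nat.card N = 2448 := by
    rw [R.card_eq_index_normalizer, ← R.coe_coe, Subgroup.index_mul_card, hG]
  have h18 := Nat.le_of_dvd (by norm_num) hN18
  simp only [Finset.mem_insert, Finset.mem_singleton] at hn
  rcases hn with e | e | e | e | e <;> rw [e] at hidx <;> omega

end Cfsg.Agent.Lib.SylowSeventeen
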