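import Cfsg.Agent.Lib.SylowSeventeen.Core
import Cfsg.Agent.Lib.Classical.SmallIso
import Cfsg.Agent.Lib.PGroups.SylowNumber
import Cfsg.Agent.S0496
import Cfsg.Agent.S0742
import Cfsg.Agent.Lib.SylowCounting.PSLRecognition
import Cfsg.Prelude.Def_LieExceptional

/-!
The simple normal subgroup of a group with eighteen Sylow 17-subgroups and its Sylow numbers.
-/

set_option autoImplicit false
set_option linter.style.haveILetI false

namespace Cfsg.Agent.Lib.SylowSeventeen

open MulAction

variable {G : Type*} [Group G] [Finite G] [hp : Fact (Nat.Prime 17)]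

theorem not_comm (h : Eighteen G) : ¬ IsMulCommutative G := by
  intro hc
  obtain ⟨P⟩ : Nonempty (Sylow 17 G) := inferInstance
  haveI : (P : Subgroup G).Normal := ⟨fun n hn g => by
    rwa [mul_comm' g n, mul_inv_cancel_right]⟩
  have := P.card_eq_index_normalizer
  rw [h.card_eq, ← P.coe_coe, Subgroup.normalizer_eq_top, Subgroup.index_top] at this
  omega

theorem zassenhaus (h : Eighteen G) [IsSimpleGroup G] (h306 : Nat.card G ≠ 306) :
    Cfsg.IsZassenhausGroup G (Sylow 17 G) := by
  refine ⟨⟨fun {g k} e => ?_⟩, ?_, fun g a b c hab hbc hac ha hb hc => three_points h hab hbc hac ha hb hc, ?_, ?_⟩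
  · refine (inv_mul_eq_one.1 (h.faithful (k⁻¹ * g) fun P => ?_)).symm
    rw [mul_smul, e P, inv_smul_smul]
  · rw [MulAction.is_two_pretransitive_iff]
    exact fun {a b c d} hab hcd => two_transitive h a b c d hab hcd
  · obtain ⟨a⟩ : Nonempty (Sylow 17 G) := inferInstance
    obtain ⟨b, hb⟩ := exists_ne h a
    obtain ⟨-, -, -, hc⟩ := card_stabilizer h a b hb.symm
    have hH : stabilizer G a ⊓ stabilizer G b ≠ ⊥ := fun e => by
      rw [e, Subgroup.card_bot, mul_one] at hc
      exact h306 hc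
    obtain ⟨⟨g, hg⟩, hg1⟩ := (stabilizer G a ⊓ stabilizer G b).ne_bot_iff_exists_ne_one.1 hH
    exact ⟨g, fun e => hg1 (Subtype.ext e), a, b, hb.symm, hg.1, hg.2⟩
  · intro N hN htr
    obtain ⟨a⟩ : Nonempty (Sylow 17 G) := inferInstance
    refine ⟨a, ?_⟩
    have hNb : N ≠ ⊥ := by
      rintro rfl
      obtain ⟨b, hb⟩ := exists_ne h a
      obtain ⟨⟨g, hg⟩, hgb⟩ := htr.exists_smul_eq a b
      exact hb (by rw [← hgb, show (⟨g, hg⟩ : (⊥ : Subgroup G)) = 1 from Subsingleton.elim _ _, one_smul])
    have hP := sylow_le_normal h N hNb a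
    intro hst
    have hle : (a : Subgroup G) = ⊥ := by
      rw [Subgroup.eq_bot_iff_forall]
      intro u hu
      have : (⟨u, hP hu⟩ : N) ∈ stabilizer N a := smul_self a hu
      rw [hst, Subgroup.mem_bot] at this
      exact congrArg Subtype.val this
    have := card_sylow h a
    rw [hle, Subgroup.card_bot] at this
    omega

/-- A generator of a two-point stabiliser of order sixteen is an odd permutation. -/
theorem card_stabilizer_ne_sixteen (h : Eighteen G) [IsSimpleGroup G] {a b : Sylow 17 G} (hab : a ≠ b) :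
    Nat.card ↥(stabilizer G a ⊓ stabilizer G b) ≠ 16 := by
  classical
  intro h16
  haveI : Fintype (Sylow 17 G) := Fintype.ofFinite _
  obtain ⟨hcyc, -, -, -⟩ := card_stabilizer h a b hab
  obtain ⟨⟨g, hgH⟩, hgen⟩ := hcyc.exists_generator
  have hord : orderOf g = 16 := by
    have := orderOf_eq_card_of_forall_mem_zpowers hgen
    rwa [h16, Subgroup.orderOf_mk] at this
  set σ : Equiv.Perm (Sylow 17 G) := toPermHom G (Sylow 17 G) g with hσ
  have happ : ∀ (k : ℕ) (X : Sylow 17 G), (σ ^ k) X = g ^ k • X := fun k X => by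
    rw [hσ, ← map_pow]; rfl
  have hfix : ∀ (k : ℕ) (X : Sylow 17 G), X ≠ a → X ≠ b → g ^ k • X = X → 16 ∣ k := by
    intro k X hXa hXb hX
    have ha : g ^ k • a = a := (pow_mem hgH k).1
    have hb : g ^ k • b = b := (pow_mem hgH k).2
    rw [← hord]
    exact orderOf_dvd_of_pow_eq_one (three_points h hab hXb.symm hXa.symm ha hb hX)
  have hsupp : σ.support = {a, b}ᶜ := by
    ext X
    simp only [Equiv.Perm.mem_support, Finset.mem_compl, Finset.mem_insert, Finset.mem_singleton]
    constructor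
    · intro hX e
      rcases e with rfl | rfl
      · exact hX hgH.1
      · exact hX hgH.2
    · intro hX e
      push Not at hX
      have := hfix 1 X hX.1 hX.2 (by rw [← happ 1 X, pow_one]; exact e)
      omega
  have hcard : σ.support.card = 16 := by
    rw [hsupp, Finset.card_compl, ← Nat.card_eq_fintype_card, h.card_eq, Finset.card_pair hab]
  obtain ⟨X, hXs⟩ : σ.support.Nonempty := Finset.card_pos.1 (by omega)
  have hcycle : σ.IsCycle := by
    refine ⟨X, Equiv.Perm.mem_support.1 hXs, fun Y hY => ?_⟩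
    have hX' : X ∈ ({a, b}ᶜ : Finset (Sylow 17 G)) := hsupp ▸ hXs
    simp only [Finset.mem_compl, Finset.mem_insert, Finset.mem_singleton, not_or] at hX'
    let f : Fin 16 → Sylow 17 G := fun k => (σ ^ (k : ℕ)) X
    have hf : Function.Injective f := by
      intro i j e
      simp only [f, happ] at e
      rcases Nat.lt_or_ge (i : ℕ) j with hlt | hge
      · exfalso
        have := hfix ((j : ℕ) - i) X hX'.1 hX'.2 (smul_left_cancel (g ^ (i : ℕ)) (by
          rw [← mul_smul, ← pow_add, show (i : ℕ) + (j - i) = j by omega, e]))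
        obtain ⟨c, hc⟩ := this
        omega
      · have := hfix ((i : ℕ) - j) X hX'.1 hX'.2 (smul_left_cancel (g ^ (j : ℕ)) (by
          rw [← mul_smul, ← pow_add, show (j : ℕ) + (i - j) = i by omega, e]))
        obtain ⟨c, hc⟩ := this
        exact Fin.ext (by omega)
    have hmem : ∀ k, f k ∈ σ.support := fun k => (Equiv.Perm.pow_apply_mem_support).2 hXs
    have himg : Finset.univ.image f = σ.support := by
      refine Finset.eq_of_subset_of_card_le (fun z hz => ?_) ?_
      · obtain ⟨k, -, rfl⟩ := Finset.mem_image.1 hz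
        exact hmem k
      · rw [hcard, Finset.card_image_of_injective _ hf, Finset.card_univ, Fintype.card_fin]
    obtain ⟨k, -, hk⟩ := Finset.mem_image.1 (himg.symm ▸ Equiv.Perm.mem_support.2 hY : Y ∈ Finset.univ.image f)
    exact ⟨((k : ℕ) : ℤ), by rw [zpow_natCast]; exact hk⟩
  have hsign := hcycle.sign
  rw [hcard] at hsign
  have hker : (Equiv.Perm.sign.comp (toPermHom G (Sylow 17 G))).ker = ⊤ := by
    refine (IsSimpleGroup.eq_bot_or_eq_top_of_normal _ inferInstance).resolve_left fun e => ?_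
    refine not_comm h ⟨⟨fun x y => (MonoidHom.ker_eq_bot_iff _).1 e ?_⟩⟩
    rw [map_mul, map_mul, mul_comm]
  have hg : g ∈ (Equiv.Perm.sign.comp (toPermHom G (Sylow 17 G))).ker := by rw [hker]; trivial
  have := (MonoidHom.mem_ker.1 hg : Equiv.Perm.sign σ = 1)
  rw [hsign] at this
  revert this
  decide

theorem simple_iso (h : Eighteen G) [IsSimpleGroup G] {F : Type*} [Field F] [Fintype F]
    (hF : Fintype.card F = 17) :
    Nat.card G = 2448 ∧ Nonempty (G ≃* Matrix.ProjectiveSpecialLinearGroup (Fin 2) F) := by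
  classical
  haveI : Fintype (Sylow 17 G) := Fintype.ofFinite _
  obtain ⟨a⟩ : Nonempty (Sylow 17 G) := inferInstance
  obtain ⟨b, hb⟩ := exists_ne h a
  obtain ⟨-, hd, -, hG⟩ := card_stabilizer h a b hb.symm
  set d := Nat.card ↥(stabilizer G a ⊓ stabilizer G b) with hdd
  have hd16 : d ≠ 16 := card_stabilizer_ne_sixteen h hb.symm
  have hd1 : d ≠ 1 := fun e => by
    rw [e, mul_one] at hG
    rcases Cfsg.Agent.S0496.result (not_comm h) (by omega) with e' | e' | e' | e' | e' | e' <;> omega
  obtain ⟨i, hi, hdi⟩ := (Nat.dvd_prime_pow Nat.prime_two).1 (show d ∣ 2 ^ 4 by simpa using hd)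
  have hi' : i = 1 ∨ i = 2 ∨ i = 3 := by
    rcases (show i = 0 ∨ i = 1 ∨ i = 2 ∨ i = 3 ∨ i = 4 by omega) with rfl | rfl | rfl | rfl | rfl <;>
      simp_all
  have heven : Even d ∧ 2 * d ≤ 16 := by
    rcases hi' with rfl | rfl | rfl <;> rw [hdi] <;> exact ⟨by decide, by norm_num⟩
  have hn : Fintype.card (Sylow 17 G) = 18 := by rw [← Nat.card_eq_fintype_card, h.card_eq]
  have hZ := zassenhaus h (fun e => hd1 (by omega))
  obtain ⟨p, f, K, _, _, hpp, -, hK, hKn, ⟨e⟩⟩ :=
    Cfsg.Agent.S0742.result hZ hb.symm (hdd ▸ heven.1) (by rw [hn, ← hdd]; omega)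
  have hK17 : Fintype.card K = 17 := by omega
  haveI : CharP K 17 := charP_of_card_eq_prime hK17
  have hc := Cfsg.Agent.Lib.Classical.card_PSL2_odd (F := K) (by rw [hK17]; decide)
  rw [hK17, ← Nat.card_congr e.toEquiv] at hc
  have hcard : Nat.card G = 2448 := by omega
  exact ⟨hcard, Cfsg.Agent.Lib.SylowCounting.iso_psl_prime (p := 17) (by norm_num) (by rw [hcard]; norm_num)
    h.card_eq hF⟩

end Cfsg.Agent.Lib.SylowSeventeen
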